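import Cfsg.Agent.FT.PF5Defs
import Cfsg.Agent.FT.PF3Defs

/-! The abstract setting of Peterfalvi (13.4)-(13.10). -/

set_option autoImplicit false

open Pointwise Cfsg Cfsg.Lib.Solv
open scoped ComplexConjugate

namespace Cfsg.Lib.FT

variable {G : Type*} [Group G] [Finite G]

/-- The facts about `S`, `K = S'`, `H = F(S)`, `P = S_F` and the coherent isometry `ν` used in
Peterfalvi (13.4)-(13.10). -/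
structure Fit13 (S K H P W W₁ W₂ : Subgroup G) (u : ℕ) (ν : (G → ℂ) →ₗ[ℂ] (G → ℂ)) : Prop where
  cyc : CyclicTIHyp ⊤ W W₁ W₂
  pr : PrimeTIHyp S K W W₁ W₂
  q_prime : (Nat.card W₁).Prime
  p_prime : (Nat.card W₂).Prime
  odd : Odd (Nat.card S)
  nsHS : H ⊲ S
  abH : IsMulCommutative H
  nPS : S ≤ 𝐍 P
  sPH : P ≤ H
  sHK : H ≤ K
  sW₂P : W₂ ≤ P
  cardP : Nat.card P = Nat.card W₂ ^ Nat.card W₁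
  idx : H.relIndex K = u
  u_le : u ≤ (Nat.card W₂ ^ Nat.card W₁ - 1) / (Nat.card W₂ - 1)
  tiH : NormedTI (sharp H) ⊤ S
  iso : ∀ ζ ∈ seqIndD H S P ⊥, ∀ ξ ∈ seqIndD H S P ⊥, dot ⊤ (ν ζ) (ν ξ) = dot S ζ ξ
  vc : ∀ ζ ∈ seqIndD H S P ⊥, ν ζ ∈ VC (⊤ : Subgroup G)
  eq_ind : ∀ ζ ∈ seqIndD H S P ⊥, ∀ ξ ∈ seqIndD H S P ⊥, ν ζ - ν ξ = ind S ⊤ (ζ - ξ)
  mu_mem : ∀ j : Hat W₂, j ≠ 1 → primeTIred S W₁ j ∈ seqIndD H S P ⊥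
  mu_eq : ∀ j : Hat W₂, j ≠ 1 → ν (primeTIred S W₁ j) = ∑ i : Hat W₁, cycTIeta ⊤ i j
  cases : ∀ ζ ∈ seqIndD H S P ⊥, (∃ j : Hat W₂, j ≠ 1 ∧ ζ = primeTIred S W₁ j) ∨
    ∀ (i : Hat W₁) (j : Hat W₂), dot ⊤ (ν ζ) (cycTIeta ⊤ i j) = 0

end Cfsg.Lib.FT
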